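import Cfsg.Agent.Lib.CentPSquare.PGroup
import Cfsg.Agent.Lib.Tate
import Cfsg.Agent.Lib.Elementary
import Cfsg.Agent.Lib.SylowExtra
import Cfsg.Agent.Lib.Basic
import Cfsg.Prelude.Def_Solvable

/-!
`[P : P'] = p²` is detected by a `p`-element with `p`-part of centraliser order `p²`.
-/

set_option autoImplicit false

namespace CfsgLib.CentPSquare

open scoped commutatorElement

variable {p : ℕ} [hp : Fact p.Prime] {G : Type*} [Group G] [Finite G]

/-- A factor of a minimal normal subgroup. -/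
structure IsFactor (N S : Subgroup G) : Prop where
  le : S ≤ N
  ne : S ≠ ⊥
  inv : ∀ n ∈ N, ∀ s ∈ S, n * s * n⁻¹ ∈ S
  min : ∀ T : Subgroup G, T ≤ S → (∀ n ∈ N, ∀ s ∈ T, n * s * n⁻¹ ∈ T) → T = ⊥ ∨ T = S

theorem exists_factor {N : Subgroup G} (hN : N ≠ ⊥) : ∃ S, IsFactor N S := by
  obtain ⟨S, ⟨h1, h2, h3⟩, hmin⟩ := (Set.toFinite
    {T : Subgroup G | T ≤ N ∧ T ≠ ⊥ ∧ ∀ n ∈ N, ∀ s ∈ T, n * s * n⁻¹ ∈ T}).exists_minimal
    ⟨N, le_rfl, hN, fun n hn s hs => N.mul_mem (N.mul_mem hn hs) (N.inv_mem hn)⟩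
  refine ⟨S, h1, h2, h3, fun T hT hTi => ?_⟩
  by_cases h : T = ⊥
  · exact Or.inl h
  · exact Or.inr (le_antisymm hT (hmin ⟨hT.trans h1, h, hTi⟩ hT))

omit [Finite G] in
theorem IsFactor.conj {N S : Subgroup G} [hN : N.Normal] (h : IsFactor N S) (g : G) :
    IsFactor N (S.map (MulAut.conj g).toMonoidHom) := by
  refine ⟨?_, ?_, ?_, fun T hT hTi => ?_⟩
  · rintro _ ⟨s, hs, rfl⟩
    exact hN.conj_mem s (h.le hs) g
  · rw [Ne, Subgroup.map_eq_bot_iff_of_injective _ (MulAut.conj g).injective]
    exact h.ne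
  · rintro n hn _ ⟨s, hs, rfl⟩
    refine ⟨(g⁻¹ * n * g) * s * (g⁻¹ * n * g)⁻¹, h.inv _ (hN.conj_mem' n hn g) s hs, ?_⟩
    simp [mul_assoc]
  · have hT' : ∀ n ∈ N, ∀ s ∈ T.comap (MulAut.conj g).toMonoidHom,
        n * s * n⁻¹ ∈ T.comap (MulAut.conj g).toMonoidHom := by
      intro n hn s hs
      rw [Subgroup.mem_comap] at hs ⊢
      rw [map_mul, map_mul, map_inv]
      exact hTi _ (hN.conj_mem n hn g) _ hs
    rcases h.min (T.comap (MulAut.conj g).toMonoidHom) (fun s hs => by
      obtain ⟨s', hs', e⟩ := hT hs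
      rwa [← (MulAut.conj g).injective e]) hT' with e | e
    · left
      rw [eq_bot_iff]
      intro t ht
      obtain ⟨s, hs, rfl⟩ := hT ht
      have : s ∈ T.comap (MulAut.conj g).toMonoidHom := ht
      rw [e, Subgroup.mem_bot] at this
      rw [this, map_one]; exact one_mem _
    · right
      rw [← e, Subgroup.map_comap_eq_self_of_surjective (MulAut.conj g).surjective]

omit [Finite G] in
theorem IsFactor.commute_of_ne {N S S' : Subgroup G} (h : IsFactor N S) (h' : IsFactor N S') (hne : S' ≠ S) :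
    ∀ a ∈ S, ∀ b ∈ S', Commute a b := by
  intro a ha b hb
  have hm : a * b * a⁻¹ * b⁻¹ ∈ S ⊓ S' := by
    refine ⟨?_, S'.mul_mem (h'.inv a (h.le ha) b hb) (S'.inv_mem hb)⟩
    rw [show a * b * a⁻¹ * b⁻¹ = a * (b * a⁻¹ * b⁻¹) by group]
    exact S.mul_mem ha (h.inv b (h'.le hb) _ (S.inv_mem ha))
  have hb' : S ⊓ S' = ⊥ := by
    have hi : ∀ n ∈ N, ∀ s ∈ S ⊓ S', n * s * n⁻¹ ∈ S ⊓ S' :=
      fun n hn s hs => ⟨h.inv n hn s hs.1, h'.inv n hn s hs.2⟩
    rcases h.min _ inf_le_left hi with e | e
    · exact e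
    rcases h'.min _ inf_le_right hi with e' | e'
    · exact e'
    · exact absurd (e'.symm.trans e) hne
  rw [hb', Subgroup.mem_bot, ← commutatorElement_def, commutatorElement_eq_one_iff_commute] at hm
  exact hm

/-- Facts about a non-abelian minimal normal subgroup and one of its factors. -/
theorem factor_facts {N S : Subgroup G} [hN : N.Normal] (hmin : ∀ M : Subgroup G, M.Normal → M ≤ N → M = ⊥ ∨ M = N)
    (hna : ¬ ∀ a ∈ N, ∀ b ∈ N, Commute a b) (h : IsFactor N S) :
    (∀ M : Subgroup G, (∀ g : G, ∀ s ∈ S, g * s * g⁻¹ ∈ M) → N ≤ M) ∧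
    S ⊓ Subgroup.centralizer (S : Set G) = ⊥ ∧
    (∀ a ∈ N, ∃ s ∈ S, ∃ c ∈ N ⊓ Subgroup.centralizer (S : Set G), a = s * c) := by
  have hN0 : N ≠ ⊥ := fun e => h.ne (le_bot_iff.mp (e ▸ h.le))
  have hgen : ∀ M : Subgroup G, (∀ g : G, ∀ s ∈ S, g * s * g⁻¹ ∈ M) → N ≤ M := by
    intro M hM
    have hle : Subgroup.normalClosure (S : Set G) ≤ N := Subgroup.normalClosure_le_normal h.le
    rcases hmin _ Subgroup.normalClosure_normal hle with e | e
    · exact absurd (le_bot_iff.mp (e ▸ Subgroup.subset_normalClosure)) h.ne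
    · rw [← e, Subgroup.normalClosure, Subgroup.closure_le]
      intro x hx
      obtain ⟨s, hs, hsx⟩ := Group.mem_conjugatesOfSet_iff.mp hx
      obtain ⟨g, hg⟩ := isConj_iff.mp hsx
      exact hg ▸ hM g s hs
  have hZ : S ⊓ Subgroup.centralizer (S : Set G) = ⊥ := by
    rcases h.min (S ⊓ Subgroup.centralizer (S : Set G)) inf_le_left (fun n hn s hs => ⟨h.inv n hn s hs.1, by
      refine Subgroup.mem_centralizer_iff.mpr ?_
      intro t ht
      have ht' := Subgroup.mem_centralizer_iff.mp hs.2 _ (h.inv n⁻¹ (N.inv_mem hn) t ht)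
      rw [inv_inv] at ht'
      calc t * (n * s * n⁻¹) = n * ((n⁻¹ * t * n) * s) * n⁻¹ := by group
        _ = n * (s * (n⁻¹ * t * n)) * n⁻¹ := by rw [ht']
        _ = _ := by group⟩) with e | e
    · exact e
    · exfalso
      have hSC : S ≤ Subgroup.centralizer (S : Set G) := inf_eq_left.mp e
      have hNC : N ≤ Subgroup.centralizer (S : Set G) := hgen _ fun g s hs => by
        by_cases he : S.map (MulAut.conj g).toMonoidHom = S
        · exact hSC (he.le ⟨s, hs, rfl⟩)
        · exact Subgroup.mem_centralizer_iff.mpr fun t ht =>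
            (h.commute_of_ne (h.conj g) he t ht _ ⟨s, hs, rfl⟩).eq
      have hSN : S ≤ N ⊓ Subgroup.centralizer (N : Set G) := le_inf h.le fun s hs =>
        Subgroup.mem_centralizer_iff.mpr fun t ht => (Subgroup.mem_centralizer_iff.mp (hNC ht) s hs).symm
      haveI : (Subgroup.centralizer (N : Set G)).Normal := Subgroup.normal_centralizer
      rcases hmin _ inferInstance (inf_le_left : N ⊓ Subgroup.centralizer (N : Set G) ≤ N) with e' | e'
      · exact h.ne (le_bot_iff.mp (e' ▸ hSN))
      · exact hna fun a ha b hb => (Subgroup.mem_centralizer_iff.mp (inf_eq_left.mp e' hb) a ha)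
  refine ⟨hgen, hZ, fun a ha => ?_⟩
  set C := N ⊓ Subgroup.centralizer (S : Set G) with hC
  have hSC : ∀ s ∈ S, ∀ c ∈ C, Commute s c := fun s hs c hc => Subgroup.mem_centralizer_iff.mp hc.2 s hs
  let K : Subgroup G := (MonoidHom.noncommCoprod S.subtype C.subtype fun s c => hSC s s.2 c c.2).range
  have hK : N ≤ K := hgen K fun g s hs => by
    by_cases he : S.map (MulAut.conj g).toMonoidHom = S
    · exact ⟨(⟨_, he.le ⟨s, hs, rfl⟩⟩, 1), mul_one _⟩
    · refine ⟨(1, ⟨_, (h.conj g).le ⟨s, hs, rfl⟩, Subgroup.mem_centralizer_iff.mpr fun t ht =>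
        (h.commute_of_ne (h.conj g) he t ht _ ⟨s, hs, rfl⟩).eq⟩), one_mul _⟩
  obtain ⟨⟨s, c⟩, hsc⟩ := hK ha
  exact ⟨s, s.2, c, c.2, hsc.symm⟩

/-- The Sylow intersection has the full `p`-part of a subnormal subgroup. -/
theorem card_subgroupOf_mul (P : Sylow p G) {N X : Subgroup G} [N.Normal] (hX : X ≤ N)
    (hinv : ∀ n ∈ N, ∀ s ∈ X, n * s * n⁻¹ ∈ X) :
    ∃ r, ¬ p ∣ r ∧ Nat.card X = Nat.card (X.subgroupOf (P : Subgroup G)) * r := by
  haveI : (X.subgroupOf N).Normal := ⟨fun s hs g => hinv g g.2 s hs⟩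
  have h1 := not_dvd_relIndex_of_sylow (sylowInfNormal P N) (X.subgroupOf N)
  rw [coe_sylowInfNormal, Subgroup.relIndex_subgroupOf hX] at h1
  refine ⟨_, h1, ?_⟩
  have h2 := Subgroup.relIndex_mul_relIndex ⊥ ((P : Subgroup G) ⊓ X) X bot_le inf_le_right
  rw [Subgroup.relIndex_bot_left, Subgroup.relIndex_bot_left, Subgroup.inf_relIndex_right] at h2
  rw [← h2]
  congr 1
  rw [← Subgroup.inf_subgroupOf_left X (P : Subgroup G)]
  exact (Nat.card_congr (Subgroup.subgroupOfEquivOfLe inf_le_left).toEquiv).symm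

theorem dvd_card_of_normal (hcore : Cfsg.pPrimeCore p G = ⊥) {M : Subgroup G} [M.Normal] (hM : M ≠ ⊥) :
    p ∣ Nat.card M := by
  by_contra h
  exact hM (le_bot_iff.mp (hcore ▸ CfsgLib.le_pPrimeCore ((hp.out.coprime_iff_not_dvd.mpr h).symm)))

theorem subgroupOf_ne_bot (P : Sylow p G) {N X : Subgroup G} [N.Normal] (hX : X ≤ N)
    (hinv : ∀ n ∈ N, ∀ s ∈ X, n * s * n⁻¹ ∈ X) (hd : p ∣ Nat.card X) :
    X.subgroupOf (P : Subgroup G) ≠ ⊥ := by
  intro h
  obtain ⟨r, hr, hc⟩ := card_subgroupOf_mul P hX hinv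
  rw [h, Subgroup.card_bot, one_mul] at hc
  exact hr (hc ▸ hd)

theorem mem_normalizer_of_conj {H : Type*} [Group H] [Finite H] {K : Subgroup H} {y : H}
    (h : ∀ z ∈ K, y * z * y⁻¹ ∈ K) : y ∈ Subgroup.normalizer (K : Set H) := by
  have he : K.map (MulAut.conj y).toMonoidHom = K := Subgroup.eq_of_le_of_card_ge
    (by rintro _ ⟨z, hz, rfl⟩; exact h z hz)
    (Subgroup.card_map_of_injective (MulAut.conj y).injective).ge
  rw [Subgroup.mem_normalizer_iff]
  intro z
  refine ⟨h z, fun hz => ?_⟩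
  obtain ⟨w, hw, hwz⟩ := he.ge hz
  have : w = z := (MulAut.conj y).injective hwz
  exact this ▸ hw

/-- The Sylow intersection with a minimal normal subgroup has index `p` and is abelian. -/
theorem main_step (P : Sylow p G) (hbig : p ^ 3 ≤ Nat.card (P : Subgroup G))
    (hab : (commutator (P : Subgroup G)).index = p ^ 2) (hcore : Cfsg.pPrimeCore p G = ⊥)
    (hcore' : (⁅(P : Subgroup G), (P : Subgroup G)⁆).normalCore = ⊥)
    (hnas : ¬ ∃ S : Subgroup G, S.Normal ∧ IsSimpleGroup S ∧ ¬ IsMulCommutative S ∧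
      Subgroup.centralizer (S : Set G) = ⊥) :
    ∃ N : Subgroup G, N.Normal ∧ (N.subgroupOf (P : Subgroup G)).index = p ∧
      ∀ a ∈ N.subgroupOf (P : Subgroup G), ∀ b ∈ N.subgroupOf (P : Subgroup G), Commute a b := by
  classical
  have hPp : IsPGroup p (P : Subgroup G) := P.2
  have hpp := hp.out
  have hP' : (commutator (P : Subgroup G)).map (P : Subgroup G).subtype =
      ⁅(P : Subgroup G), (P : Subgroup G)⁆ := Subgroup.map_subtype_commutator _
  have hbig' : p ^ 2 < Nat.card (P : Subgroup G) :=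
    lt_of_lt_of_le (Nat.pow_lt_pow_right hpp.one_lt (by norm_num)) hbig
  have hne : ¬ commutator (P : Subgroup G) = ⊥ := by
    intro h
    have := card_commutator_mul hab
    rw [h, Subgroup.card_bot, mul_one] at this
    omega
  -- minimal normal subgroup
  haveI hnt : Nontrivial G := by
    by_contra h
    rw [not_nontrivial_iff_subsingleton] at h
    exact hne (Subsingleton.elim _ _)
  obtain ⟨N, hNn, -, hN0, hmin⟩ := CfsgLib.exists_minimal_normal (G := G) (N := ⊤) top_ne_bot
  haveI := hNn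
  set A := N.subgroupOf (P : Subgroup G) with hAdef
  -- the Frattini subgroup of `P` is its commutator subgroup
  have hgenP : ∀ R : Subgroup (P : Subgroup G), R ⊔ commutator (P : Subgroup G) = ⊤ → R = ⊤ := by
    haveI := hPp.isNilpotent
    intro R hR
    by_contra h
    obtain ⟨M, hM, hRM⟩ := (eq_top_or_exists_le_coatom R).resolve_left h
    have hMn : M.Normal := Subgroup.NormalizerCondition.normal_of_coatom M Group.normalizerCondition_of_isNilpotent hM
    haveI := hMn
    have hidx : commutator (P : Subgroup G) ≤ M := by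
      have hlt : commutator ((P : Subgroup G) ⧸ M) < ⊤ := by
        haveI : Nontrivial ((P : Subgroup G) ⧸ M) := QuotientGroup.nontrivial_iff.mpr hM.1
        exact Group.IsSolvable.commutator_lt_top_of_nontrivial _
      have hmap : (commutator (P : Subgroup G)).map (QuotientGroup.mk' M) = commutator ((P : Subgroup G) ⧸ M) := by
        rw [commutator_def, commutator_def, Subgroup.map_commutator,
          Subgroup.map_top_of_surjective _ (QuotientGroup.mk'_surjective M)]
      rcases eq_or_lt_of_le (le_sup_right : M ≤ commutator (P : Subgroup G) ⊔ M) with e | e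
      · exact le_sup_left.trans e.ge
      · exfalso
        have ht := hM.2 _ e
        apply hlt.ne
        rw [← hmap, eq_top_iff, ← Subgroup.map_top_of_surjective _ (QuotientGroup.mk'_surjective M), ← ht,
          Subgroup.map_sup, sup_le_iff]
        exact ⟨le_rfl, by rw [QuotientGroup.map_mk'_self]; exact bot_le⟩
    exact hM.1 (top_le_iff.mp (hR ▸ sup_le hRM hidx))
  have hfr : frattini (P : Subgroup G) ≤ commutator (P : Subgroup G) := by
    have hcyc : ∀ a, commutator (P : Subgroup G) ⊔ Subgroup.zpowers a ≠ ⊤ := by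
      intro a h
      have hz := hgenP (Subgroup.zpowers a) (by rw [sup_comm]; exact h)
      apply hne
      rw [eq_bot_iff, commutator_def, Subgroup.commutator_le]
      intro u _ v _
      rw [Subgroup.mem_bot, commutatorElement_eq_one_iff_commute]
      obtain ⟨i, rfl⟩ : u ∈ Subgroup.zpowers a := by rw [hz]; trivial
      obtain ⟨j, rfl⟩ : v ∈ Subgroup.zpowers a := by rw [hz]; trivial
      exact Commute.zpow_zpow (Commute.refl a) i j
    have hidx : ∀ a, a ∉ commutator (P : Subgroup G) →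
        (commutator (P : Subgroup G) ⊔ Subgroup.zpowers a).index = p := by
      intro a ha
      have h1 := Subgroup.relIndex_mul_index (le_sup_left :
        commutator (P : Subgroup G) ≤ commutator (P : Subgroup G) ⊔ Subgroup.zpowers a)
      rw [hab] at h1
      obtain ⟨i, hi, hi'⟩ := (Nat.dvd_prime_pow hpp).mp (Dvd.intro_left _ h1)
      interval_cases i
      · rw [pow_zero, Subgroup.index_eq_one] at hi'
        exact absurd hi' (hcyc a)
      · rw [hi', pow_one]
      · exfalso
        rw [hi'] at h1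
        have h3 := mul_right_cancel₀ (pow_ne_zero 2 hpp.ne_zero) (h1.trans (one_mul _).symm)
        exact ha (Subgroup.relIndex_eq_one.mp h3 (Subgroup.mem_sup_right (Subgroup.mem_zpowers a)))
    intro x hx
    by_contra hxc
    set M1 := commutator (P : Subgroup G) ⊔ Subgroup.zpowers x with hM1
    obtain ⟨b, hb⟩ : ∃ b, b ∉ M1 := by
      by_contra h
      push Not at h
      exact hcyc x ((Subgroup.eq_top_iff' _).mpr h)
    set M2 := commutator (P : Subgroup G) ⊔ Subgroup.zpowers b with hM2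
    have hxM2 : x ∈ M2 :=
      CfsgLib.frattini_le_of_index_prime (hidx b (fun h => hb (Subgroup.mem_sup_left h))) hx
    have hle : M1 ≤ M2 := sup_le le_sup_left (Subgroup.zpowers_le.mpr hxM2)
    have h1 := Subgroup.relIndex_mul_index hle
    rw [hidx x hxc, hidx b (fun h => hb (Subgroup.mem_sup_left h))] at h1
    have h3 := mul_right_cancel₀ hpp.ne_zero (h1.trans (one_mul p).symm)
    exact hb (Subgroup.relIndex_eq_one.mp h3 (Subgroup.mem_sup_right (Subgroup.mem_zpowers b)))
  -- `A` is not inside `P'`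
  have hA0 : ¬ A ≤ commutator (P : Subgroup G) := by
    intro hle
    have hfr' : commutator (P : Subgroup G) ≤ frattini (P : Subgroup G) := by
      haveI := hPp.isNilpotent
      refine le_iInf₂ fun M hM => ?_
      by_contra hMle
      have : commutator (P : Subgroup G) ⊔ M = ⊤ := hM.2 _ (lt_of_le_of_ne le_sup_right fun e => hMle (le_sup_left.trans e.ge))
      exact hM.1 (hgenP M (by rwa [sup_comm]))
    have hNP : Cfsg.HasNormalPComplement p N := CfsgLib.hasNormalPComplement_of_inf_le_frattini P N (by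
      intro x hx
      exact ⟨⟨x, hx.2⟩, hfr' (hle hx.1), rfl⟩)
    obtain ⟨S, K, hK, hc⟩ := hNP
    haveI := hK
    have hKp : (Nat.card K).Coprime p := by
      refine (hpp.coprime_iff_not_dvd.mpr fun hd => ?_).symm
      rw [← hc.index_eq_card] at hd
      exact S.not_dvd_index hd
    haveI : (Cfsg.pPrimeCore p N).Characteristic := inferInstance
    have hKb : K = ⊥ := by
      have h1 : (Cfsg.pPrimeCore p N).map N.subtype ≤ Cfsg.pPrimeCore p G :=
        CfsgLib.map_pPrimeCore_le p N
      rw [hcore, le_bot_iff, Subgroup.map_eq_bot_iff_of_injective _ N.subtype_injective] at h1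
      exact le_bot_iff.mp (h1 ▸ CfsgLib.le_pPrimeCore hKp)
    have hNp : IsPGroup p N := by
      have := hc.card_mul
      rw [hKb, Subgroup.card_bot, one_mul] at this
      obtain ⟨m, hm⟩ := S.2.exists_card_eq
      exact IsPGroup.of_card (n := m) (this.symm.trans hm)
    have hNP' : N ≤ ⁅(P : Subgroup G), (P : Subgroup G)⁆ := by
      intro x hx
      rw [← hP']
      exact ⟨⟨x, hNp.le_sylow_of_normal P hx⟩, hle hx, rfl⟩
    exact hN0 (le_bot_iff.mp (hcore' ▸ Subgroup.normal_le_normalCore.mpr hNP'))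
  have hA : A = ⊤ ∨ A.index = p := by
    have h1 := Subgroup.relIndex_mul_index (le_sup_right :
      commutator (P : Subgroup G) ≤ A ⊔ commutator (P : Subgroup G))
    rw [hab] at h1
    obtain ⟨i, hi, hi'⟩ := (Nat.dvd_prime_pow hpp).mp (Dvd.intro_left _ h1)
    interval_cases i
    · rw [pow_zero, Subgroup.index_eq_one] at hi'
      exact Or.inl (hgenP A hi')
    · right
      rw [pow_one] at hi'
      by_cases hc : commutator (P : Subgroup G) ≤ A
      · rwa [sup_eq_left.mpr hc] at hi'
      exfalso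
      apply hc
      have hmap : (commutator (P : Subgroup G)).map (QuotientGroup.mk' A) = commutator ((P : Subgroup G) ⧸ A) := by
        rw [commutator_def, commutator_def, Subgroup.map_commutator,
          Subgroup.map_top_of_surjective _ (QuotientGroup.mk'_surjective A)]
      have hidx : (commutator ((P : Subgroup G) ⧸ A)).index = p := by
        rw [← hmap, Subgroup.index_map, QuotientGroup.ker_mk', sup_comm, hi',
          MonoidHom.range_eq_top.mpr (QuotientGroup.mk'_surjective A), Subgroup.index_top, mul_one]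
      haveI := (hPp.to_quotient A).isNilpotent
      have hb := CfsgLib.CharTheory.commutator_eq_bot_of_cyclic_abelianization hidx
      rw [hb, Subgroup.map_eq_bot_iff, QuotientGroup.ker_mk'] at hmap
      exact hmap
    · exfalso
      rw [hi'] at h1
      have h3 := mul_right_cancel₀ (pow_ne_zero 2 hpp.ne_zero) (h1.trans (one_mul _).symm)
      exact hA0 (le_sup_left.trans (Subgroup.relIndex_eq_one.mp h3))
  haveI hAn : A.Normal := Subgroup.normal_subgroupOf
  refine ⟨N, hNn, ?_⟩
  by_cases hna : ∀ a ∈ N, ∀ b ∈ N, Commute a b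
  · have hcommA : ∀ a ∈ A, ∀ b ∈ A, Commute a b := fun a ha b hb => Subtype.ext (hna a ha b hb).eq
    refine ⟨hA.resolve_left fun h => hne ?_, hcommA⟩
    rw [eq_bot_iff, commutator_def, Subgroup.commutator_le]
    intro u _ v _
    rw [Subgroup.mem_bot, commutatorElement_eq_one_iff_commute]
    exact hcommA u (h ▸ Subgroup.mem_top u) v (h ▸ Subgroup.mem_top v)
  -- centraliser
  haveI hCn : (Subgroup.centralizer (N : Set G)).Normal := Subgroup.normal_centralizer
  have hCN : Subgroup.centralizer (N : Set G) = ⊥ := by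
    by_contra hC
    obtain ⟨M, hMn, hMC, hM0, -⟩ := CfsgLib.exists_minimal_normal hC
    haveI := hMn
    have hZ : N ⊓ Subgroup.centralizer (N : Set G) = ⊥ := by
      rcases hmin _ inferInstance (inf_le_left : N ⊓ Subgroup.centralizer (N : Set G) ≤ N) with e | e
      · exact e
      · exact absurd (fun a ha b hb => Subgroup.mem_centralizer_iff.mp (inf_eq_left.mp e hb) a ha) hna
    set B := M.subgroupOf (P : Subgroup G) with hBdef
    haveI : B.Normal := Subgroup.normal_subgroupOf
    have hB : B ≠ ⊥ := subgroupOf_ne_bot P le_rfl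
      (fun n hn s hs => M.mul_mem (M.mul_mem hn hs) (M.inv_mem hn)) (dvd_card_of_normal hcore hM0)
    have hAB : A ⊓ B = ⊥ := by
      rw [eq_bot_iff]
      intro x hx
      have : (x : G) ∈ N ⊓ Subgroup.centralizer (N : Set G) := ⟨hx.1, hMC hx.2⟩
      rw [hZ, Subgroup.mem_bot] at this
      exact Subtype.ext this
    have hAb : A ≠ ⊥ := fun h => hA0 (h ▸ bot_le)
    rcases hA with hA | hA
    · exact hB (by rwa [hA, top_inf_eq] at hAB)
    · have hgen' : A ⊔ B = ⊤ := by
        obtain ⟨b, hb, hb1⟩ := (Subgroup.bot_or_exists_ne_one B).resolve_left hB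
        refine top_le_iff.mp ((sup_zpowers_eq_top hA (x := b) fun h => hb1 ?_).ge.trans
          (sup_le_sup_left (Subgroup.zpowers_le.mpr hb) A))
        have : b ∈ A ⊓ B := ⟨h, hb⟩
        rwa [hAB, Subgroup.mem_bot] at this
      have := prod_card_le hPp hab hAb hB hAB
        (fun a ha b hb => Subgroup.commute_of_normal_of_disjoint A B inferInstance inferInstance
          (disjoint_iff.mpr hAB) a b ha hb)
        (fun a => by
          obtain ⟨u, hu, v, hv, e⟩ := Subgroup.mem_sup_of_normal_right.mp (hgen' ▸ Subgroup.mem_top a)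
          exact ⟨u, hu, v, hv, e.symm⟩)
      omega
  -- factors
  obtain ⟨S₀, hS₀⟩ := exists_factor hN0
  have hsimple : ∀ S, IsFactor N S → S ≠ N := by
    intro S hS hSN
    subst hSN
    refine hnas ⟨S, hNn, ?_, fun h => hna fun a ha b hb => ?_, hCN⟩
    · haveI : Nontrivial S := (Subgroup.nontrivial_iff_ne_bot S).mpr hS.ne
      refine ⟨fun R hR => ?_⟩
      rcases hS.min (R.map S.subtype) (Subgroup.map_subtype_le R) (fun n hn s hs => by
        obtain ⟨r, hr, rfl⟩ := hs
        exact ⟨⟨n, hn⟩ * r * ⟨n, hn⟩⁻¹, hR.conj_mem r hr _, rfl⟩) with e | e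
      · exact Or.inl ((Subgroup.map_eq_bot_iff_of_injective _ S.subtype_injective).mp e)
      · exact Or.inr (Subgroup.map_injective S.subtype_injective
          (by rw [e, ← MonoidHom.range_eq_map, Subgroup.range_subtype]))
    · exact congrArg Subtype.val (h.is_comm.comm (⟨a, ha⟩ : S) ⟨b, hb⟩)
  -- local data for a factor
  have hfac : ∀ S, IsFactor N S → ∀ Q T : Subgroup (P : Subgroup G), Q = S.subgroupOf (P : Subgroup G) →
      T = (N ⊓ Subgroup.centralizer (S : Set G)).subgroupOf (P : Subgroup G) →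
      Q ≤ A ∧ T ≤ A ∧ Q ⊓ T = ⊥ ∧ (∀ q ∈ Q, ∀ t ∈ T, Commute q t) ∧
      Nat.card Q * Nat.card T = Nat.card A ∧ (∀ a ∈ A, ∃ q ∈ Q, ∃ t ∈ T, a = q * t) := by
    intro S hS Q T hQ hT
    subst hQ hT
    obtain ⟨-, hZ, hdec⟩ := factor_facts hmin hna hS
    set C := N ⊓ Subgroup.centralizer (S : Set G) with hCdef
    set Q := S.subgroupOf (P : Subgroup G)
    set T := C.subgroupOf (P : Subgroup G)
    have hd : Q ⊓ T = ⊥ := by
      rw [eq_bot_iff]
      intro x hx
      have : (x : G) ∈ S ⊓ Subgroup.centralizer (S : Set G) := ⟨hx.1, hx.2.2⟩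
      rw [hZ, Subgroup.mem_bot] at this
      exact Subtype.ext this
    have hc : ∀ q ∈ Q, ∀ t ∈ T, Commute q t := fun q hq t ht =>
      Subtype.ext (Subgroup.mem_centralizer_iff.mp ht.2 _ hq)
    have hQA : Q ≤ A := fun q hq => hS.le hq
    have hTA : T ≤ A := fun t ht => ht.1
    have hCinv : ∀ n ∈ N, ∀ s ∈ C, n * s * n⁻¹ ∈ C := by
      intro n hn s hs
      refine ⟨N.mul_mem (N.mul_mem hn hs.1) (N.inv_mem hn), Subgroup.mem_centralizer_iff.mpr fun t ht => ?_⟩
      have ht' := Subgroup.mem_centralizer_iff.mp hs.2 _ (hS.inv n⁻¹ (N.inv_mem hn) t ht)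
      rw [inv_inv] at ht'
      calc t * (n * s * n⁻¹) = n * ((n⁻¹ * t * n) * s) * n⁻¹ := by group
        _ = n * (s * (n⁻¹ * t * n)) * n⁻¹ := by rw [ht']
        _ = _ := by group
    obtain ⟨r1, hr1, e1⟩ := card_subgroupOf_mul P hS.le hS.inv
    obtain ⟨r2, hr2, e2⟩ := card_subgroupOf_mul P (inf_le_left : C ≤ N) hCinv
    obtain ⟨r, hr, e⟩ := card_subgroupOf_mul P (le_refl N)
      (fun n hn s hs => N.mul_mem (N.mul_mem hn hs) (N.inv_mem hn))
    let fN : S × C →* N := MonoidHom.noncommCoprod (Subgroup.inclusion hS.le)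
      (Subgroup.inclusion inf_le_left) fun s c => Subtype.ext (Subgroup.mem_centralizer_iff.mp c.2.2 _ s.2)
    have hfN : Function.Bijective fN := by
      refine ⟨(injective_iff_map_eq_one _).mpr ?_, fun a => ?_⟩
      · rintro ⟨s, c⟩ h
        have h' : (s : G) * c = 1 := congrArg Subtype.val h
        have hq : (s : G) ∈ S ⊓ Subgroup.centralizer (S : Set G) := ⟨s.2, by
          rw [eq_inv_of_mul_eq_one_left h']; exact (C.inv_mem c.2).2⟩
        rw [hZ, Subgroup.mem_bot] at hq
        rw [hq, one_mul] at h'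
        exact Prod.ext (Subtype.ext hq) (Subtype.ext h')
      · obtain ⟨s, hs, c, hc', hac⟩ := hdec a a.2
        exact ⟨(⟨s, hs⟩, ⟨c, hc'⟩), Subtype.ext hac.symm⟩
    have eN : Nat.card S * Nat.card C = Nat.card N := by
      rw [← Nat.card_prod]; exact Nat.card_eq_of_bijective _ hfN
    have hcard : Nat.card Q * Nat.card T = Nat.card A := by
      have key : Nat.card Q * Nat.card T * (r1 * r2) = Nat.card A * r := by
        rw [← e, ← eN, e1, e2]; ring
      obtain ⟨a, ha⟩ := (hPp.to_subgroup A).exists_card_eq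
      obtain ⟨b, hb⟩ := (hPp.to_subgroup Q).exists_card_eq
      obtain ⟨c, hc''⟩ := (hPp.to_subgroup T).exists_card_eq
      refine Nat.dvd_antisymm ?_ ?_
      · refine Nat.Coprime.dvd_of_dvd_mul_right ?_ (key ▸ dvd_mul_right _ _)
        rw [hb, hc'', ← pow_add]
        exact Nat.Coprime.pow_left _ (hpp.coprime_iff_not_dvd.mpr hr)
      · refine Nat.Coprime.dvd_of_dvd_mul_right ?_ (key.symm ▸ dvd_mul_right _ _)
        rw [ha]
        exact Nat.Coprime.pow_left _ (hpp.coprime_iff_not_dvd.mpr (hpp.not_dvd_mul hr1 hr2))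
    let fA : Q × T →* A := MonoidHom.noncommCoprod (Subgroup.inclusion hQA) (Subgroup.inclusion hTA)
      fun q t => Subtype.ext (hc q q.2 t t.2)
    have hinj : Function.Injective fA := by
      refine (injective_iff_map_eq_one _).mpr ?_
      rintro ⟨q, t⟩ h
      have h' : (q : (P : Subgroup G)) * t = 1 := congrArg Subtype.val h
      have hq : (q : (P : Subgroup G)) ∈ Q ⊓ T := ⟨q.2, by
        rw [eq_inv_of_mul_eq_one_left h']; exact T.inv_mem t.2⟩
      rw [hd, Subgroup.mem_bot] at hq
      rw [hq, one_mul] at h'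
      exact Prod.ext (Subtype.ext hq) (Subtype.ext h')
    have hbij : Function.Bijective fA :=
      (Nat.bijective_iff_injective_and_card fA).mpr ⟨hinj, by rw [Nat.card_prod, hcard]⟩
    refine ⟨hQA, hTA, hd, hc, hcard, fun a ha => ?_⟩
    obtain ⟨⟨q, t⟩, hqt⟩ := hbij.2 ⟨a, ha⟩
    exact ⟨q, q.2, t, t.2, (congrArg Subtype.val hqt).symm⟩
  -- both parts are nontrivial
  have hQne : ∀ S, IsFactor N S → S.subgroupOf (P : Subgroup G) ≠ ⊥ := by
    intro S hS
    refine subgroupOf_ne_bot P hS.le hS.inv ?_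
    by_contra hd
    refine hA0 fun a ha => ?_
    have hcen : ∀ g : G, ∀ s ∈ S, g * s * g⁻¹ ∈ Subgroup.centralizer ({(a : G)} : Set G) := by
      intro g s hs
      have hSg := hS.conj g
      obtain ⟨-, -, -, -, -, hdec⟩ := hfac _ hSg _ _ rfl rfl
      obtain ⟨q, hq, t, ht, rfl⟩ := hdec a ha
      have hcardg : Nat.card (S.map (MulAut.conj g).toMonoidHom : Subgroup G) = Nat.card S :=
        Subgroup.card_map_of_injective (MulAut.conj g).injective
      have hq1 : q = 1 := by
        obtain ⟨r, hr, e⟩ := card_subgroupOf_mul P hSg.le hSg.inv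
        obtain ⟨k, hk⟩ := (hPp.to_subgroup ((S.map (MulAut.conj g).toMonoidHom).subgroupOf (P : Subgroup G))).exists_card_eq
        rw [hk, hcardg] at e
        rcases k with _ | k
        · rw [pow_zero] at hk
          have := Subgroup.eq_bot_of_card_eq _ hk
          rwa [this, Subgroup.mem_bot] at hq
        · exact absurd (e ▸ dvd_mul_of_dvd_left (dvd_pow_self p (by omega)) r) hd
      subst hq1
      rw [one_mul, Subgroup.mem_centralizer_singleton_iff]
      exact Subgroup.mem_centralizer_iff.mp ht.2 _ ⟨s, hs, rfl⟩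
    have hNa := (factor_facts hmin hna hS).1 _ hcen
    have haZ : (a : G) ∈ Subgroup.centralizer (N : Set G) := Subgroup.mem_centralizer_iff.mpr fun n hn =>
      Subgroup.mem_centralizer_singleton_iff.mp (hNa hn)
    rw [hCN, Subgroup.mem_bot] at haZ
    rw [show a = 1 from Subtype.ext haZ]
    exact one_mem _
  have hTne : ∀ S, IsFactor N S →
      (N ⊓ Subgroup.centralizer (S : Set G)).subgroupOf (P : Subgroup G) ≠ ⊥ := by
    intro S hS hT
    obtain ⟨g, hg⟩ : ∃ g : G, S.map (MulAut.conj g).toMonoidHom ≠ S := by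
      by_contra h
      push Not at h
      exact hsimple S hS (le_antisymm hS.le ((factor_facts hmin hna hS).1 _
        fun g s hs => (h g).le ⟨s, hs, rfl⟩))
    refine hQne _ (hS.conj g) (le_bot_iff.mp (hT ▸ ?_))
    exact fun x hx => ⟨(hS.conj g).le hx, Subgroup.mem_centralizer_iff.mpr fun t ht =>
      (hS.commute_of_ne (hS.conj g) hg t ht _ hx).eq⟩
  have hnorm : ∀ S, IsFactor N S → ∀ y : G, S.map (MulAut.conj y).toMonoidHom = S →
      ∀ z : G, (z ∈ S → y * z * y⁻¹ ∈ S) ∧ (z ∈ N ⊓ Subgroup.centralizer (S : Set G) →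
        y * z * y⁻¹ ∈ N ⊓ Subgroup.centralizer (S : Set G)) := by
    intro S hS y hy z
    refine ⟨fun hz => hy.le ⟨z, hz, rfl⟩, fun hz => ⟨hNn.conj_mem z hz.1 y,
      Subgroup.mem_centralizer_iff.mpr fun t ht => ?_⟩⟩
    obtain ⟨s, hs, rfl⟩ := hy.ge ht
    show (y * s * y⁻¹) * (y * z * y⁻¹) = (y * z * y⁻¹) * (y * s * y⁻¹)
    calc (y * s * y⁻¹) * (y * z * y⁻¹) = y * (s * z) * y⁻¹ := by group
      _ = y * (z * s) * y⁻¹ := by rw [Subgroup.mem_centralizer_iff.mp hz.2 s hs]
      _ = _ := by group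
  have hNfix : ∀ S, IsFactor N S → ∀ n ∈ N, S.map (MulAut.conj n).toMonoidHom = S := by
    intro S hS n hn
    refine le_antisymm (by rintro _ ⟨s, hs, rfl⟩; exact hS.inv n hn s hs) fun s hs =>
      ⟨n⁻¹ * s * n, by simpa using hS.inv n⁻¹ (N.inv_mem hn) s hs, ?_⟩
    simp [mul_assoc]
  rcases hA with hA | hA
  · exfalso
    obtain ⟨-, -, hd, hc, -, hg⟩ := hfac _ hS₀ _ _ rfl rfl
    have := prod_card_le hPp hab (hQne _ hS₀) (hTne _ hS₀) hd hc fun a => hg a (hA ▸ Subgroup.mem_top a)
    omega
  refine ⟨hA, ?_⟩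
  obtain ⟨x, hx⟩ : ∃ x, x ∉ A := by
    by_contra h
    push Not at h
    rw [show A = ⊤ from (Subgroup.eq_top_iff' A).mpr h, Subgroup.index_top] at hA
    exact hpp.ne_one hA.symm
  have hmoved : ∀ S, IsFactor N S → S.map (MulAut.conj (x : G)).toMonoidHom ≠ S := by
    intro S hS hfix
    obtain ⟨-, -, -, hc, hcard, hg⟩ := hfac _ hS _ _ rfl rfl
    haveI : (S.subgroupOf (P : Subgroup G)).Normal := by
      refine Subgroup.normalizer_eq_top_iff.mp (top_le_iff.mp ((sup_zpowers_eq_top hA hx).ge.trans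
        (sup_le (fun a ha => ?_) (Subgroup.zpowers_le.mpr ?_))))
      all_goals refine mem_normalizer_of_conj fun z hz => ?_
      · exact ((hnorm S hS a (hNfix S hS a ha)) z).1 hz
      · exact ((hnorm S hS x hfix) z).1 hz
    haveI : ((N ⊓ Subgroup.centralizer (S : Set G)).subgroupOf (P : Subgroup G)).Normal := by
      refine Subgroup.normalizer_eq_top_iff.mp (top_le_iff.mp ((sup_zpowers_eq_top hA hx).ge.trans
        (sup_le (fun a ha => ?_) (Subgroup.zpowers_le.mpr ?_))))
      all_goals refine mem_normalizer_of_conj fun z hz => ?_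
      · exact ((hnorm S hS a (hNfix S hS a ha)) z).2 hz
      · exact ((hnorm S hS x hfix) z).2 hz
    exact prod_false hPp hab hA (hQne _ hS) (hTne _ hS) hc hcard hg
  have hQc : ∀ S, IsFactor N S → ∀ a ∈ S.subgroupOf (P : Subgroup G),
      ∀ b ∈ S.subgroupOf (P : Subgroup G), Commute a b := by
    intro S hS
    obtain ⟨hQA, hTA, hd, hc, -, hg⟩ := hfac _ hS _ _ rfl rfl
    refine factor_commutative hPp hab hA hx hQA hTA hd hc hg fun q hq i hi0 hip => ?_
    have hne' : S.map (MulAut.conj ((x : G) ^ i)).toMonoidHom ≠ S := by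
      intro hfix
      let St : Subgroup G :=
        { carrier := {y | S.map (MulAut.conj y).toMonoidHom = S}
          one_mem' := by
            show S.map (MulAut.conj 1).toMonoidHom = S
            rw [map_one]; exact Subgroup.map_id S
          mul_mem' := fun {a b} (ha : S.map (MulAut.conj a).toMonoidHom = S)
              (hb : S.map (MulAut.conj b).toMonoidHom = S) => by
            show S.map (MulAut.conj (a * b)).toMonoidHom = S
            rw [map_mul, show (MulAut.conj a * MulAut.conj b).toMonoidHom =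
              (MulAut.conj a).toMonoidHom.comp (MulAut.conj b).toMonoidHom from rfl, ← Subgroup.map_map, hb, ha]
          inv_mem' := fun {a} (ha : S.map (MulAut.conj a).toMonoidHom = S) => by
            show S.map (MulAut.conj a⁻¹).toMonoidHom = S
            conv_lhs => rw [← ha, Subgroup.map_map]
            rw [show (MulAut.conj a⁻¹).toMonoidHom.comp (MulAut.conj a).toMonoidHom = MonoidHom.id G by
              ext z; simp [mul_assoc], Subgroup.map_id] }
      have h1 : (x : G) ^ i ∈ St := hfix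
      have h2 : (x : G) ^ p ∈ St := hNfix S hS ((x : G) ^ p) (pow_p_mem hA x)
      have hg' : Nat.gcd i p = 1 := Nat.Coprime.symm
        (hpp.coprime_iff_not_dvd.mpr fun hd' => by
          have := Nat.le_of_dvd hi0 hd'; omega)
      have h3 : (x : G) ∈ St := by
        have e := Nat.gcd_eq_gcd_ab i p
        rw [hg', Nat.cast_one] at e
        rw [← zpow_one (x : G), e, zpow_add, zpow_mul, zpow_mul, zpow_natCast, zpow_natCast]
        exact mul_mem (St.zpow_mem h1 _) (St.zpow_mem h2 _)
      exact hmoved S hS h3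
    refine ⟨hNn.conj_mem _ (hS.le hq) _, Subgroup.mem_centralizer_iff.mpr fun t ht => ?_⟩
    have := (hS.commute_of_ne (hS.conj ((x : G) ^ i)) hne' t ht _ ⟨(q : G), hq, rfl⟩).eq
    show t * (MulAut.conj ((x : G) ^ i) (q : G)) = MulAut.conj ((x : G) ^ i) (q : G) * t
    exact this
  intro a ha b hb
  rw [← commutatorElement_eq_one_iff_commute]
  have hall : ∀ g : G, ∀ s ∈ S₀, g * s * g⁻¹ ∈
      Subgroup.centralizer ({((⁅a, b⁆ : (P : Subgroup G)) : G)} : Set G) := by
    intro g s hs
    have hSg := hS₀.conj g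
    obtain ⟨-, -, -, hc, -, hdec⟩ := hfac _ hSg _ _ rfl rfl
    obtain ⟨q, hq, t, ht, rfl⟩ := hdec a ha
    obtain ⟨q', hq', t', ht', rfl⟩ := hdec b hb
    rw [mul_comm_comm (hc q hq t' ht') (hc q' hq' t ht) (hc q hq t ht) (hc q' hq' t' ht'),
      commutatorElement_eq_one_iff_commute.mpr (hQc _ hSg q hq q' hq'), one_mul]
    have hmem : ((⁅t, t'⁆ : (P : Subgroup G)) : G) ∈ Subgroup.centralizer
        ((S₀.map (MulAut.conj g).toMonoidHom : Subgroup G) : Set G) := by
      simp only [commutatorElement_def, Subgroup.coe_mul, Subgroup.coe_inv]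
      exact mul_mem (mul_mem (mul_mem ht.2 ht'.2) (inv_mem ht.2)) (inv_mem ht'.2)
    rw [Subgroup.mem_centralizer_singleton_iff]
    exact Subgroup.mem_centralizer_iff.mp hmem _ ⟨s, hs, rfl⟩
  have hN' := (factor_facts hmin hna hS₀).1 _ hall
  have hc0 : ((⁅a, b⁆ : (P : Subgroup G)) : G) ∈ Subgroup.centralizer (N : Set G) :=
    Subgroup.mem_centralizer_iff.mpr fun n hn => Subgroup.mem_centralizer_singleton_iff.mp (hN' hn)
  rw [hCN, Subgroup.mem_bot] at hc0
  exact Subtype.ext hc0

/-- The equivalence. -/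
theorem iff_exists (P : Sylow p G) (hdvd : p ^ 2 ∣ Nat.card G) (hcore : Cfsg.pPrimeCore p G = ⊥)
    (hcore' : (⁅(P : Subgroup G), (P : Subgroup G)⁆).normalCore = ⊥)
    (hnas : ¬ ∃ S : Subgroup G, S.Normal ∧ IsSimpleGroup S ∧ ¬ IsMulCommutative S ∧
      Subgroup.centralizer (S : Set G) = ⊥) :
    (⁅(P : Subgroup G), (P : Subgroup G)⁆).relIndex (P : Subgroup G) = p ^ 2 ↔
      ∃ x : G, (∃ k : ℕ, orderOf x = p ^ k) ∧
        (Nat.card (Subgroup.centralizer ({x} : Set G))).factorization p = 2 := by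
  have hpp := hp.out
  have hrel : (⁅(P : Subgroup G), (P : Subgroup G)⁆).relIndex (P : Subgroup G) =
      (commutator (P : Subgroup G)).index := by
    rw [← Subgroup.map_subtype_commutator, Subgroup.relIndex, Subgroup.subgroupOf,
      Subgroup.comap_map_eq_self_of_injective (P : Subgroup G).subtype_injective]
  rw [hrel]
  obtain ⟨e, he⟩ := P.2.exists_card_eq
  have hPc : Nat.card (P : Subgroup G) = p ^ (Nat.card G).factorization p := P.card_eq_multiplicity
  have hv : 2 ≤ (Nat.card G).factorization p :=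
    (hpp.pow_dvd_iff_le_factorization Nat.card_pos.ne').mp hdvd
  have hnt : Nontrivial (P : Subgroup G) := by
    rw [← Finite.one_lt_card_iff_nontrivial, hPc]
    exact Nat.one_lt_pow (by omega) hpp.one_lt
  have centbound : ∀ x : G, x ∈ (P : Subgroup G) → ∀ R : Sylow p (Subgroup.centralizer ({x} : Set G)),
      ∃ (x' : (P : Subgroup G)) (g : G), (x' : G) = g * x * g⁻¹ ∧
        Nat.card R ≤ Nat.card (Subgroup.centralizer ({x'} : Set (P : Subgroup G))) := by
    intro x hxP
    obtain ⟨k, hk⟩ := P.2 ⟨x, hxP⟩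
    have hxk : x ^ p ^ k = 1 := congrArg Subtype.val hk
    set C := Subgroup.centralizer ({x} : Set G) with hC
    intro R
    set xC : C := ⟨x, Subgroup.mem_centralizer_singleton_iff.mpr rfl⟩
    have hzc : Subgroup.zpowers xC ≤ (R : Subgroup C) := by
      haveI : (Subgroup.zpowers xC).Normal := ⟨fun z hz g => by
        obtain ⟨i, rfl⟩ := hz
        have hg : Commute g xC := Subtype.ext (Subgroup.mem_centralizer_singleton_iff.mp g.2)
        rw [(hg.zpow_right i).eq, mul_inv_cancel_right]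
        exact ⟨i, rfl⟩⟩
      refine IsPGroup.le_sylow_of_normal (fun z => ?_) R
      obtain ⟨_, i, rfl⟩ := z
      refine ⟨k, Subtype.ext ?_⟩
      show (xC ^ i) ^ p ^ k = 1
      rw [← zpow_natCast, zpow_comm, zpow_natCast, show xC ^ p ^ k = 1 from Subtype.ext hxk, one_zpow]
    obtain ⟨P₁, hP₁⟩ := (R.2.map C.subtype).exists_le_sylow
    obtain ⟨g, hg⟩ := MulAction.exists_smul_eq G P₁ P
    have hmem : ∀ y ∈ (R : Subgroup C), g * (y : G) * g⁻¹ ∈ (P : Subgroup G) := fun y hy => by
      rw [← hg, Sylow.coe_subgroup_smul]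
      exact ⟨y, hP₁ ⟨y, hy, rfl⟩, rfl⟩
    set x' : (P : Subgroup G) := ⟨g * x * g⁻¹, hmem xC (hzc (Subgroup.mem_zpowers _))⟩ with hx'
    refine ⟨x', g, rfl, ?_⟩
    have hcen : ∀ y : (R : Subgroup C), (⟨g * ((y : C) : G) * g⁻¹, hmem _ y.2⟩ : (P : Subgroup G)) ∈
        Subgroup.centralizer ({x'} : Set (P : Subgroup G)) := fun y => by
      rw [Subgroup.mem_centralizer_singleton_iff]
      refine Subtype.ext ?_
      show g * ((y : C) : G) * g⁻¹ * (g * x * g⁻¹) = g * x * g⁻¹ * (g * ((y : C) : G) * g⁻¹)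
      calc g * ((y : C) : G) * g⁻¹ * (g * x * g⁻¹) = g * (((y : C) : G) * x) * g⁻¹ := by group
        _ = g * (x * ((y : C) : G)) * g⁻¹ := by rw [Subgroup.mem_centralizer_singleton_iff.mp (y : C).2]
        _ = _ := by group
    refine Nat.card_le_card_of_injective
      (fun y : R => (⟨⟨g * ((y : C) : G) * g⁻¹, hmem _ y.2⟩, hcen ⟨y.1, y.2⟩⟩ :
        Subgroup.centralizer ({x'} : Set (P : Subgroup G)))) fun a b h => ?_
    have h' : g * ((a : C) : G) * g⁻¹ = g * ((b : C) : G) * g⁻¹ :=
      congrArg Subtype.val (congrArg Subtype.val h)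
    exact Subtype.ext (Subtype.ext (mul_left_cancel (mul_right_cancel h')))
  have hfac : ∀ x : G, p ^ (Nat.card (Subgroup.centralizer ({x} : Set G))).factorization p =
      Nat.card (Classical.arbitrary (Sylow p (Subgroup.centralizer ({x} : Set G)))) := fun x =>
    (Sylow.card_eq_multiplicity _).symm
  have hlow : ∀ (x : (P : Subgroup G)), Nat.card (Subgroup.centralizer ({x} : Set (P : Subgroup G))) ≤
      p ^ (Nat.card (Subgroup.centralizer ({(x : G)} : Set G))).factorization p := by
    intro x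
    set CP := Subgroup.centralizer ({x} : Set (P : Subgroup G))
    let f : CP →* Subgroup.centralizer ({(x : G)} : Set G) :=
      ((P : Subgroup G).subtype.comp CP.subtype).codRestrict _ fun y =>
        Subgroup.mem_centralizer_singleton_iff.mpr
          (congrArg Subtype.val (Subgroup.mem_centralizer_singleton_iff.mp y.2))
    have hf : Function.Injective f := fun a b h =>
      Subtype.ext (Subtype.ext (congrArg (fun z : Subgroup.centralizer ({(x : G)} : Set G) => (z : G)) h))
    obtain ⟨R, hR⟩ := ((P.2.to_subgroup CP).of_equiv (MonoidHom.ofInjective hf)).exists_le_sylow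
    rw [← R.card_eq_multiplicity, Nat.card_congr (MonoidHom.ofInjective hf).toEquiv]
    exact Subgroup.card_le_of_le hR
  constructor
  · intro hab
    rcases Nat.lt_or_ge ((Nat.card G).factorization p) 3 with h3 | h3
    · refine ⟨1, ⟨0, by simp⟩, ?_⟩
      have : Subgroup.centralizer ({1} : Set G) = ⊤ := by
        rw [eq_top_iff]; intro y _; exact Subgroup.mem_centralizer_singleton_iff.mpr (by simp)
      rw [this, Subgroup.card_top]
      omega
    · obtain ⟨N, hNn, hA, hcomm⟩ := main_step P (hPc ▸ Nat.pow_le_pow_right hpp.pos h3) hab hcore hcore' hnas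
      haveI := hNn
      set A := N.subgroupOf (P : Subgroup G)
      haveI : A.Normal := Subgroup.normal_subgroupOf
      have hbig : p ^ 2 ≤ Nat.card (P : Subgroup G) := hPc ▸ Nat.pow_le_pow_right hpp.pos hv
      obtain ⟨x, hx⟩ : ∃ x, x ∉ A := by
        by_contra h
        push Not at h
        rw [show A = ⊤ from (Subgroup.eq_top_iff' A).mpr h, Subgroup.index_top] at hA
        exact hpp.ne_one hA.symm
      obtain ⟨k, hk⟩ := IsPGroup.iff_orderOf.mp P.2 x
      refine ⟨(x : G), ⟨k, by rw [← hk, Subgroup.orderOf_coe]⟩, ?_⟩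
      obtain ⟨x', g, hx', hle⟩ := centbound (x : G) x.2 (Classical.arbitrary _)
      rw [← hfac] at hle
      have hx'A : x' ∉ A := fun h => hx (by
        have h' : g * (x : G) * g⁻¹ ∈ N := hx' ▸ h
        have := hNn.conj_mem' _ h' g
        show (x : G) ∈ N
        simpa [mul_assoc] using this)
      rw [card_centralizer_eq P.2 hab hA hcomm hbig hx'A] at hle
      have hge := hlow x
      rw [card_centralizer_eq P.2 hab hA hcomm hbig hx] at hge
      exact le_antisymm ((Nat.pow_le_pow_iff_right hpp.one_lt).mp hle) ((Nat.pow_le_pow_iff_right hpp.one_lt).mp hge)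
  · rintro ⟨x, ⟨k, hk⟩, hfx⟩
    have hz : IsPGroup p (Subgroup.zpowers x) := IsPGroup.of_card (n := k) (by rw [Nat.card_zpowers, hk])
    obtain ⟨P₁, hP₁⟩ := hz.exists_le_sylow
    obtain ⟨g, hg⟩ := MulAction.exists_smul_eq G P₁ P
    have hgx : g * x * g⁻¹ ∈ (P : Subgroup G) := by
      rw [← hg, Sylow.coe_subgroup_smul]
      exact ⟨x, hP₁ (Subgroup.mem_zpowers x), rfl⟩
    have hcard : Nat.card (Subgroup.centralizer ({g * x * g⁻¹} : Set G)) =
        Nat.card (Subgroup.centralizer ({x} : Set G)) := by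
      refine Nat.card_congr (((MulAut.conj g⁻¹).toEquiv).subtypeEquiv fun y => ?_)
      rw [Subgroup.mem_centralizer_singleton_iff, Subgroup.mem_centralizer_singleton_iff]
      show _ ↔ g⁻¹ * y * g⁻¹⁻¹ * x = x * (g⁻¹ * y * g⁻¹⁻¹)
      constructor
      · intro h
        calc g⁻¹ * y * g⁻¹⁻¹ * x = g⁻¹ * (y * (g * x * g⁻¹)) * g := by group
          _ = g⁻¹ * (g * x * g⁻¹ * y) * g := by rw [h]
          _ = _ := by group
      · intro h
        calc y * (g * x * g⁻¹) = g * (g⁻¹ * y * g⁻¹⁻¹ * x) * g⁻¹ := by group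
          _ = g * (x * (g⁻¹ * y * g⁻¹⁻¹)) * g⁻¹ := by rw [h]
          _ = _ := by group
    have hle : Nat.card (Subgroup.centralizer ({(⟨_, hgx⟩ : (P : Subgroup G))} : Set (P : Subgroup G))) ≤ p ^ 2 := by
      have := hlow ⟨_, hgx⟩
      rwa [show ((⟨_, hgx⟩ : (P : Subgroup G)) : G) = g * x * g⁻¹ from rfl, hcard, hfx] at this
    -- the class bound
    haveI := P.2.isNilpotent
    obtain ⟨j, hj⟩ := P.2.index (commutator (P : Subgroup G))
    set y : (P : Subgroup G) := ⟨_, hgx⟩
    have h1 : Nat.card (MulAction.orbit (ConjAct (P : Subgroup G)) y) ≤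
        Nat.card (commutator (P : Subgroup G)) := by
      refine Nat.card_le_card_of_injective (fun z : MulAction.orbit (ConjAct (P : Subgroup G)) y =>
        (⟨(z : (P : Subgroup G)) * y⁻¹, ?_⟩ : commutator (P : Subgroup G))) fun a b h => ?_
      · obtain ⟨z, g', rfl⟩ := z
        show g' • y * y⁻¹ ∈ commutator _
        rw [ConjAct.smul_def, commutator_def]
        exact Subgroup.commutator_mem_commutator trivial trivial
      · exact Subtype.ext (mul_right_cancel (congrArg Subtype.val h))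
    have h2 := Nat.card_congr (MulAction.orbitProdStabilizerEquivGroup (ConjAct (P : Subgroup G)) y)
    rw [Nat.card_prod] at h2
    have h3 : Nat.card (MulAction.stabilizer (ConjAct (P : Subgroup G)) y) =
        Nat.card (Subgroup.centralizer ({y} : Set (P : Subgroup G))) := by
      rw [ConjAct.stabilizer_eq_centralizer]; rfl
    have h4 : Nat.card (ConjAct (P : Subgroup G)) = Nat.card (P : Subgroup G) :=
      Nat.card_congr ConjAct.ofConjAct.toEquiv
    have h5 := (commutator (P : Subgroup G)).index_mul_card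
    rw [h3, h4, ← h5, hj] at h2
    have hpos : 0 < Nat.card (commutator (P : Subgroup G)) := Nat.card_pos
    have h6 : p ^ j * Nat.card (commutator (P : Subgroup G)) ≤ p ^ 2 * Nat.card (commutator (P : Subgroup G)) := by
      rw [← h2, mul_comm (p ^ 2)]
      exact Nat.mul_le_mul h1 hle
    have hj2 : j ≤ 2 := (Nat.pow_le_pow_iff_right hpp.one_lt).mp (Nat.le_of_mul_le_mul_right h6 hpos)
    interval_cases j
    · rw [pow_zero, Subgroup.index_eq_one] at hj
      exact absurd hj (Group.IsSolvable.commutator_lt_top_of_nontrivial _).ne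
    · rw [pow_one] at hj
      have hb := CfsgLib.CharTheory.commutator_eq_bot_of_cyclic_abelianization hj
      rw [hb, Subgroup.index_bot, hPc] at hj
      exact absurd hj (by
        have : p ^ 2 ≤ p ^ (Nat.card G).factorization p := Nat.pow_le_pow_right hpp.pos hv
        have := hpp.two_le
        nlinarith)
    · exact hj

end CfsgLib.CentPSquare
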