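import Mathlib
import Cfsg.Agent.Lib.CharTheory.FrobSection

/-!
`p`-groups whose commutator quotient has order `p²`: what this says about a subgroup of index `p`.
-/

set_option autoImplicit false

namespace CfsgLib.CentPSquare

open scoped commutatorElement

variable {p : ℕ} [hp : Fact p.Prime] {P : Type*} [Group P] [Finite P]

omit [Finite P] in
/-- Generators commuting modulo a normal subgroup. -/
theorem commutator_le_of_gen {A R : Subgroup P} [R.Normal] {x : P} (hgen : A ⊔ Subgroup.zpowers x = ⊤)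
    (hA : ∀ a ∈ A, ∀ b ∈ A, ⁅a, b⁆ ∈ R) (hx : ∀ a ∈ A, ⁅a, x⁆ ∈ R) : commutator P ≤ R := by
  let π := QuotientGroup.mk' R
  have hcom : ∀ u v : P, ⁅u, v⁆ ∈ R ↔ Commute (π u) (π v) := fun u v => by
    rw [← commutatorElement_eq_one_iff_commute, ← map_commutatorElement]
    exact (QuotientGroup.eq_one_iff _).symm
  have h1 : A ⊔ Subgroup.zpowers x ≤ (Subgroup.centralizer (π '' ((A : Set P) ∪ {x}))).comap π := by
    refine sup_le (fun a ha => ?_) (Subgroup.zpowers_le.mpr ?_)
    · rintro _ ⟨b, hb, rfl⟩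
      rcases hb with hb | rfl
      · exact ((hcom a b).mp (hA a ha b hb)).symm.eq
      · exact ((hcom a b).mp (hx a ha)).symm.eq
    · rintro _ ⟨b, hb, rfl⟩
      rcases hb with hb | rfl
      · exact ((hcom b x).mp (hx b hb)).eq
      · rfl
  rw [hgen, top_le_iff] at h1
  have h2 : A ⊔ Subgroup.zpowers x ≤ (Subgroup.center (P ⧸ R)).comap π := by
    refine sup_le (fun a ha => ?_) (Subgroup.zpowers_le.mpr ?_) <;>
      refine Subgroup.mem_center_iff.mpr fun g => ?_ <;>
      obtain ⟨g, rfl⟩ := QuotientGroup.mk'_surjective R g <;>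
      have hg : g ∈ (Subgroup.centralizer (π '' ((A : Set P) ∪ {x}))).comap π := (h1 ▸ Subgroup.mem_top g)
    · exact (hg _ ⟨a, Or.inl ha, rfl⟩).symm
    · exact (hg _ ⟨x, Or.inr rfl, rfl⟩).symm
  rw [hgen, top_le_iff] at h2
  rw [commutator_def, Subgroup.commutator_le]
  intro u _ v _
  have hv : v ∈ (Subgroup.center (P ⧸ R)).comap π := h2 ▸ Subgroup.mem_top v
  exact (hcom u v).mpr (Subgroup.mem_center_iff.mp hv (π u))

theorem card_commutator_mul (hab : (commutator P).index = p ^ 2) :
    Nat.card P = p ^ 2 * Nat.card (commutator P) := by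
  rw [← hab, Subgroup.index_mul_card]

/-- A class lies in a coset of the commutator subgroup. -/
theorem le_card_centralizer (hab : (commutator P).index = p ^ 2) (x : P) :
    p ^ 2 ≤ Nat.card (Subgroup.centralizer ({x} : Set P)) := by
  have h1 : Nat.card (MulAction.orbit (ConjAct P) x) ≤ Nat.card (commutator P) := by
    refine Nat.card_le_card_of_injective (fun y : MulAction.orbit (ConjAct P) x =>
      (⟨(y : P) * x⁻¹, ?_⟩ : commutator P)) fun a b h => ?_
    · obtain ⟨y, g, rfl⟩ := y
      show g • x * x⁻¹ ∈ commutator P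
      rw [ConjAct.smul_def, commutator_def]
      exact Subgroup.commutator_mem_commutator trivial trivial
    · exact Subtype.ext (mul_right_cancel (congrArg Subtype.val h))
  have h2 := Nat.card_congr (MulAction.orbitProdStabilizerEquivGroup (ConjAct P) x)
  rw [Nat.card_prod] at h2
  have h3 : Nat.card (MulAction.stabilizer (ConjAct P) x) =
      Nat.card (Subgroup.centralizer ({x} : Set P)) := by
    rw [ConjAct.stabilizer_eq_centralizer]; rfl
  have h4 : Nat.card (ConjAct P) = Nat.card P := Nat.card_congr ConjAct.ofConjAct.toEquiv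
  rw [h3, h4, card_commutator_mul hab] at h2
  have hpos : 0 < Nat.card (commutator P) := Nat.card_pos
  nlinarith

theorem sup_zpowers_eq_top {A : Subgroup P} (hA : A.index = p) {x : P} (hx : x ∉ A) :
    A ⊔ Subgroup.zpowers x = ⊤ := by
  have h := Subgroup.relIndex_mul_index (le_sup_left : A ≤ A ⊔ Subgroup.zpowers x)
  rw [hA] at h
  rcases (Nat.dvd_prime hp.out).mp (Dvd.intro_left _ h) with h1 | h1
  · exact Subgroup.index_eq_one.mp h1
  · exfalso
    rw [h1] at h
    have h3 := mul_right_cancel₀ hp.out.ne_zero (h.trans (one_mul p).symm)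
    exact hx (Subgroup.relIndex_eq_one.mp h3 (Subgroup.mem_sup_right (Subgroup.mem_zpowers x)))

theorem pow_p_mem {A : Subgroup P} [A.Normal] (hA : A.index = p) (x : P) : x ^ p ∈ A := by
  rw [← hA]
  exact Subgroup.pow_index_mem A x

theorem mul_le_of_lt (hP : IsPGroup p P) {H K : Subgroup P} (h : H < K) : p * Nat.card H ≤ Nat.card K := by
  obtain ⟨a, ha⟩ := (hP.to_subgroup H).exists_card_eq
  obtain ⟨b, hb⟩ := (hP.to_subgroup K).exists_card_eq
  have hlt : Nat.card H < Nat.card K := by
    rcases (Subgroup.card_le_of_le h.le).lt_or_eq with e | e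
    · exact e
    · exact absurd (Subgroup.eq_of_le_of_card_ge h.le e.ge) h.ne
  rw [ha, hb] at hlt ⊢
  rw [← pow_succ']
  exact Nat.pow_le_pow_right hp.out.pos ((Nat.pow_lt_pow_iff_right hp.out.one_lt).mp hlt)

theorem commutator_lt (hP : IsPGroup p P) {Q : Subgroup P} [Q.Normal] (hQ : Q ≠ ⊥) :
    ⁅Q, (⊤ : Subgroup P)⁆ < Q := by
  refine lt_of_le_of_ne (Subgroup.commutator_le_left Q ⊤) fun h => hQ ?_
  haveI := hP.isNilpotent
  obtain ⟨n, hn⟩ := Subgroup.nilpotent_iff_lowerCentralSeries.mp ‹Group.IsNilpotent P›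
  have key : ∀ k, Q ≤ Subgroup.lowerCentralSeries (⊤ : Subgroup P) k := by
    intro k
    induction k with
    | zero => simp
    | succ k ih =>
      calc Q = ⁅Q, (⊤ : Subgroup P)⁆ := h.symm
        _ ≤ _ := Subgroup.commutator_mono ih le_rfl
  exact eq_bot_iff.mpr ((key n).trans hn.le)

/-- The range of the product map of two commuting subgroups. -/
def prodSub {R S : Subgroup P} (h : ∀ r ∈ R, ∀ s ∈ S, Commute r s) : Subgroup P :=
  (MonoidHom.noncommCoprod R.subtype S.subtype fun r s => h r r.2 s s.2).range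

theorem card_prodSub_le {R S : Subgroup P} (h : ∀ r ∈ R, ∀ s ∈ S, Commute r s) :
    Nat.card (prodSub h) ≤ Nat.card R * Nat.card S := by
  rw [← Nat.card_prod]
  exact Nat.card_le_card_of_surjective _ (MonoidHom.rangeRestrict_surjective _)

omit [Finite P] in
theorem mem_prodSub {R S : Subgroup P} (h : ∀ r ∈ R, ∀ s ∈ S, Commute r s) {r s : P} (hr : r ∈ R) (hs : s ∈ S) :
    r * s ∈ prodSub h := ⟨(⟨r, hr⟩, ⟨s, hs⟩), rfl⟩

theorem commutative_of_index (hP : IsPGroup p P) (Q : Subgroup P) (h : (commutator Q).index = p) :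
    ∀ a ∈ Q, ∀ b ∈ Q, Commute a b := by
  haveI := (hP.to_subgroup Q).isNilpotent
  have hb := CfsgLib.CharTheory.commutator_eq_bot_of_cyclic_abelianization h
  intro a ha b hb'
  rw [← commutatorElement_eq_one_iff_commute]
  have hm : ⁅(⟨a, ha⟩ : Q), ⟨b, hb'⟩⁆ ∈ commutator Q :=
    Subgroup.commutator_mem_commutator (Subgroup.mem_top _) (Subgroup.mem_top _)
  rw [hb, Subgroup.mem_bot] at hm
  exact congrArg Subtype.val hm

omit [Finite P] in
theorem mul_comm_comm {q t q' t' : P} (h1 : Commute q t') (h2 : Commute q' t) (h3 : Commute q t) (h4 : Commute q' t') :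
    ⁅q * t, q' * t'⁆ = ⁅q, q'⁆ * ⁅t, t'⁆ := by
  have a1 : Commute (q⁻¹) t' := h1.inv_left
  have a2 : Commute (q⁻¹) t⁻¹ := h3.inv_left.inv_right
  have a3 : Commute (q'⁻¹) t⁻¹ := h2.inv_left.inv_right
  have a4 : Commute t q' := h2.symm
  calc ⁅q * t, q' * t'⁆ = q * (t * q') * t' * (t⁻¹ * q⁻¹) * (t'⁻¹ * q'⁻¹) := by
        rw [commutatorElement_def]; group
    _ = q * q' * (t * t' * t⁻¹) * q⁻¹ * q'⁻¹ * t'⁻¹ := by
        rw [a4.eq, ← h4.inv_inv.eq]; group
    _ = q * q' * q⁻¹ * q'⁻¹ * (t * t' * t⁻¹ * t'⁻¹) := by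
        have b1 : Commute (q⁻¹ * q'⁻¹) (t * t' * t⁻¹) := by
          refine Commute.mul_left ?_ ?_
          · exact ((h3.inv_left.mul_right a1).mul_right a2)
          · exact ((h2.inv_left.mul_right h4.inv_left).mul_right a3)
        calc q * q' * (t * t' * t⁻¹) * q⁻¹ * q'⁻¹ * t'⁻¹
            = q * q' * ((t * t' * t⁻¹) * (q⁻¹ * q'⁻¹)) * t'⁻¹ := by group
          _ = q * q' * ((q⁻¹ * q'⁻¹) * (t * t' * t⁻¹)) * t'⁻¹ := by rw [b1.eq]
          _ = _ := by group
    _ = _ := by rw [commutatorElement_def, commutatorElement_def]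

/-- No direct decomposition of `P` itself, beyond order `p²`. -/
theorem prod_card_le (hP : IsPGroup p P) (hab : (commutator P).index = p ^ 2) {Q T : Subgroup P}
    (hQ : Q ≠ ⊥) (hT : T ≠ ⊥) (hd : Q ⊓ T = ⊥) (hc : ∀ q ∈ Q, ∀ t ∈ T, Commute q t)
    (hg : ∀ a : P, ∃ q ∈ Q, ∃ t ∈ T, a = q * t) : Nat.card P ≤ p ^ 2 := by
  have hbij : Function.Bijective (MonoidHom.noncommCoprod Q.subtype T.subtype fun q t => hc q q.2 t t.2) := by
    refine ⟨(injective_iff_map_eq_one _).mpr ?_, fun a => ?_⟩
    · rintro ⟨q, t⟩ h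
      have h' : (q : P) * t = 1 := h
      have hq : (q : P) ∈ Q ⊓ T := ⟨q.2, by
        rw [eq_inv_of_mul_eq_one_left h']; exact T.inv_mem t.2⟩
      rw [hd, Subgroup.mem_bot] at hq
      rw [hq, one_mul] at h'
      exact Prod.ext (Subtype.ext hq) (Subtype.ext h')
    · obtain ⟨q, hq, t, ht, rfl⟩ := hg a
      exact ⟨(⟨q, hq⟩, ⟨t, ht⟩), rfl⟩
  have hcard : Nat.card Q * Nat.card T = Nat.card P := by
    rw [← Nat.card_prod]; exact Nat.card_eq_of_bijective _ hbij
  set Q' := (commutator Q).map Q.subtype with hQ'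
  set T' := (commutator T).map T.subtype with hT'
  have hc' : ∀ r ∈ Q', ∀ s ∈ T', Commute r s := fun r hr s hs =>
    hc r (Subgroup.map_subtype_le _ hr) s (Subgroup.map_subtype_le _ hs)
  have hle : commutator P ≤ prodSub hc' := by
    rw [commutator_def, Subgroup.commutator_le]
    intro u _ v _
    obtain ⟨q, hq, t, ht, rfl⟩ := hg u
    obtain ⟨q', hq', t', ht', rfl⟩ := hg v
    rw [mul_comm_comm (hc q hq t' ht') (hc q' hq' t ht) (hc q hq t ht) (hc q' hq' t' ht')]
    exact mem_prodSub hc'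
      ⟨⁅(⟨q, hq⟩ : Q), ⟨q', hq'⟩⁆, Subgroup.commutator_mem_commutator trivial trivial, rfl⟩
      ⟨⁅(⟨t, ht⟩ : T), ⟨t', ht'⟩⁆, Subgroup.commutator_mem_commutator trivial trivial, rfl⟩
  have hidx : ∀ R : Subgroup P, R ≠ ⊥ → p ≤ (commutator R).index := by
    intro R hR
    haveI := (hP.to_subgroup R).isNilpotent
    haveI : Nontrivial R := (Subgroup.nontrivial_iff_ne_bot R).mpr hR
    obtain ⟨j, hj⟩ := ((hP.to_subgroup R).index (commutator R))
    rcases j with _ | j
    · rw [pow_zero, Subgroup.index_eq_one] at hj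
      exact absurd hj (Group.IsSolvable.commutator_lt_top_of_nontrivial R).ne
    · rw [hj]; exact Nat.le_self_pow (by omega) p
  have h1 := hidx Q hQ
  have h2 := hidx T hT
  have eQ : Nat.card Q' = Nat.card (commutator Q) := Subgroup.card_map_of_injective Q.subtype_injective
  have eT : Nat.card T' = Nat.card (commutator T) := Subgroup.card_map_of_injective T.subtype_injective
  have h3 : Nat.card (commutator P) ≤ Nat.card Q' * Nat.card T' :=
    (Subgroup.card_le_of_le hle).trans (card_prodSub_le hc')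
  rw [eQ, eT] at h3
  have h4 := card_commutator_mul hab
  have hq0 := (commutator Q).index_mul_card
  have ht0 := (commutator T).index_mul_card
  have h5 : (commutator Q).index * (commutator T).index *
      (Nat.card (commutator Q) * Nat.card (commutator T)) ≤ p ^ 2 * (Nat.card (commutator Q) * Nat.card (commutator T)) := by
    calc _ = Nat.card Q * Nat.card T := by rw [← hq0, ← ht0]; ring
      _ = p ^ 2 * Nat.card (commutator P) := by rw [hcard, h4]
      _ ≤ _ := Nat.mul_le_mul_left _ h3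
  have h6 := Nat.le_of_mul_le_mul_right h5 (Nat.mul_pos Nat.card_pos Nat.card_pos)
  have hp0 := hp.out.pos
  have eq1 : (commutator Q).index = p := by nlinarith
  have eq2 : (commutator T).index = p := by nlinarith
  have cQ : commutator Q = ⊥ := by
    haveI := (hP.to_subgroup Q).isNilpotent
    exact CfsgLib.CharTheory.commutator_eq_bot_of_cyclic_abelianization eq1
  have cT : commutator T = ⊥ := by
    haveI := (hP.to_subgroup T).isNilpotent
    exact CfsgLib.CharTheory.commutator_eq_bot_of_cyclic_abelianization eq2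
  rw [eq1, cQ, Subgroup.card_bot, mul_one] at hq0
  rw [eq2, cT, Subgroup.card_bot, mul_one] at ht0
  rw [← hcard, ← hq0, ← ht0, sq]

/-- An index `p` subgroup is not a product of two factors invariant under the group. -/
theorem prod_false (hP : IsPGroup p P) (hab : (commutator P).index = p ^ 2) {A Q T : Subgroup P}
    [A.Normal] [Q.Normal] [T.Normal] (hA : A.index = p) (hQ : Q ≠ ⊥) (hT : T ≠ ⊥)
    (hc : ∀ q ∈ Q, ∀ t ∈ T, Commute q t) (hcard : Nat.card Q * Nat.card T = Nat.card A)
    (hg : ∀ a ∈ A, ∃ q ∈ Q, ∃ t ∈ T, a = q * t) : False := by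
  obtain ⟨x, hx⟩ : ∃ x, x ∉ A := by
    by_contra h
    push Not at h
    rw [show A = ⊤ from (Subgroup.eq_top_iff' A).mpr h, Subgroup.index_top] at hA
    exact hp.out.ne_one hA.symm
  set Q0 := ⁅Q, (⊤ : Subgroup P)⁆ with hQ0
  set T0 := ⁅T, (⊤ : Subgroup P)⁆ with hT0
  haveI : (Q0 ⊔ T0).Normal := inferInstance
  have hc' : ∀ r ∈ Q0, ∀ s ∈ T0, Commute r s := fun r hr s hs =>
    hc r (Subgroup.commutator_le_left Q ⊤ hr) s (Subgroup.commutator_le_left T ⊤ hs)
  have hAx : ∀ a ∈ A, ∀ y : P, ⁅a, y⁆ ∈ Q0 ⊔ T0 := by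
    intro a ha y
    obtain ⟨q, hq, t, ht, rfl⟩ := hg a ha
    rw [show ⁅q * t, y⁆ = q * ⁅t, y⁆ * q⁻¹ * ⁅q, y⁆ by simp only [commutatorElement_def]; group]
    refine mul_mem ((inferInstance : (Q0 ⊔ T0).Normal).conj_mem _ ?_ q) ?_
    · exact Subgroup.mem_sup_right (Subgroup.commutator_mem_commutator ht trivial)
    · exact Subgroup.mem_sup_left (Subgroup.commutator_mem_commutator hq trivial)
  have hle : commutator P ≤ prodSub hc' := by
    refine (commutator_le_of_gen (R := Q0 ⊔ T0) (sup_zpowers_eq_top hA hx) (fun a ha b _ => hAx a ha b)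
      fun a ha => hAx a ha x).trans (sup_le (fun r hr => ?_) fun s hs => ?_)
    · simpa using mem_prodSub hc' hr (one_mem T0)
    · simpa using mem_prodSub hc' (one_mem Q0) hs
  have h1 := (Subgroup.card_le_of_le hle).trans (card_prodSub_le hc')
  have h2 := mul_le_of_lt hP (commutator_lt hP hQ)
  have h3 := mul_le_of_lt hP (commutator_lt hP hT)
  have h4 := card_commutator_mul hab
  have h5 := A.index_mul_card
  rw [hA, h4, sq, mul_assoc] at h5
  have h6 := Nat.eq_of_mul_eq_mul_left hp.out.pos h5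
  have h7 : p * Nat.card Q0 * (p * Nat.card T0) ≤ Nat.card Q * Nat.card T := Nat.mul_le_mul h2 h3
  have hpos : 0 < Nat.card (commutator P) := Nat.card_pos
  have := hp.out.two_le
  rw [hcard, h6] at h7
  have h8 : p * p * Nat.card (commutator P) ≤ p * Nat.card (commutator P) :=
    le_trans (Nat.mul_le_mul_left _ h1) (by linarith [h7])
  have := Nat.le_of_mul_le_mul_right h8 hpos
  nlinarith

/-- A factor which is moved by `P` is abelian. -/
theorem factor_commutative (hP : IsPGroup p P) (hab : (commutator P).index = p ^ 2) {A Q T : Subgroup P}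
    [A.Normal] (hA : A.index = p) {x : P} (hx : x ∉ A) (hQA : Q ≤ A) (hTA : T ≤ A) (hd : Q ⊓ T = ⊥)
    (hc : ∀ q ∈ Q, ∀ t ∈ T, Commute q t) (hg : ∀ a ∈ A, ∃ q ∈ Q, ∃ t ∈ T, a = q * t)
    (hmove : ∀ q ∈ Q, ∀ i : ℕ, 0 < i → i < p → x ^ i * q * (x ^ i)⁻¹ ∈ T) :
    ∀ a ∈ Q, ∀ b ∈ Q, Commute a b := by
  classical
  let f : Q × T →* A := MonoidHom.noncommCoprod (Subgroup.inclusion hQA) (Subgroup.inclusion hTA)
    fun q t => Subtype.ext (hc q q.2 t t.2)
  have hf : Function.Bijective f := by
    refine ⟨(injective_iff_map_eq_one _).mpr ?_, fun a => ?_⟩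
    · rintro ⟨q, t⟩ h
      have h' : (q : P) * t = 1 := congrArg Subtype.val h
      have hq : (q : P) ∈ Q ⊓ T := ⟨q.2, by
        rw [eq_inv_of_mul_eq_one_left h']; exact T.inv_mem t.2⟩
      rw [hd, Subgroup.mem_bot] at hq
      rw [hq, one_mul] at h'
      exact Prod.ext (Subtype.ext hq) (Subtype.ext h')
    · obtain ⟨q, hq, t, ht, hat⟩ := hg a a.2
      exact ⟨(⟨q, hq⟩, ⟨t, ht⟩), Subtype.ext hat.symm⟩
  let e := MulEquiv.ofBijective f hf
  let π : A →* Abelianization Q := (Abelianization.of.comp (MonoidHom.fst Q T)).comp e.symm.toMonoidHom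
  have hπQ : ∀ q : Q, π (Subgroup.inclusion hQA q) = Abelianization.of q := by
    intro q
    have he : e.symm (Subgroup.inclusion hQA q) = (q, 1) := by
      rw [MulEquiv.symm_apply_eq]
      exact Subtype.ext (mul_one (q : P)).symm
    show Abelianization.of (e.symm (Subgroup.inclusion hQA q)).1 = _
    rw [he]
  have hπT : ∀ t : A, (t : P) ∈ T → π t = 1 := by
    intro t ht
    have he : e.symm t = (1, ⟨t, ht⟩) := by
      rw [MulEquiv.symm_apply_eq]
      exact Subtype.ext (one_mul (t : P)).symm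
    show Abelianization.of (e.symm t).1 = _
    rw [he, map_one]
  let ψ : A →* Abelianization Q :=
    ∏ i ∈ Finset.range p, π.comp (MulAut.conjNormal (x ^ i) : MulAut A).toMonoidHom
  have hψ : ∀ a, ψ a = ∏ i ∈ Finset.range p, π (MulAut.conjNormal (x ^ i) a) := fun a => by
    simp only [ψ, MonoidHom.finset_prod_apply, MonoidHom.comp_apply]; rfl
  have hsurj : Function.Surjective ψ := by
    intro c
    obtain ⟨q, rfl⟩ := QuotientGroup.mk'_surjective (commutator Q) c
    refine ⟨Subgroup.inclusion hQA q, ?_⟩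
    rw [hψ, Finset.prod_eq_single 0]
    · rw [pow_zero, map_one]; exact hπQ q
    · intro i hi h0
      exact hπT _ (by
        rw [MulAut.conjNormal_apply]
        exact hmove q q.2 i (Nat.pos_of_ne_zero h0) (Finset.mem_range.mp hi))
    · intro h; exact absurd (Finset.mem_range.mpr hp.out.pos) h
  have hshift : ∀ a, ψ (MulAut.conjNormal x a) = ψ a := by
    intro a
    let g : ℕ → Abelianization Q := fun i => π (MulAut.conjNormal (x ^ i) a)
    have hgp : g p = g 0 := by
      have : MulAut.conjNormal (x ^ p) a = (⟨x ^ p, pow_p_mem hA x⟩ : A) * a * (⟨x ^ p, pow_p_mem hA x⟩ : A)⁻¹ :=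
        Subtype.ext (by rw [MulAut.conjNormal_apply]; rfl)
      show π _ = π _
      rw [this, map_mul, map_mul, map_inv, mul_comm (π _) (π a), mul_inv_cancel_right, pow_zero, map_one]
      rfl
    have e1 : ψ (MulAut.conjNormal x a) = ∏ i ∈ Finset.range p, g (i + 1) := by
      rw [hψ]
      refine Finset.prod_congr rfl fun i _ => ?_
      show π _ = π _
      rw [pow_succ, map_mul]; rfl
    have e2 := Finset.prod_range_succ' g p
    rw [Finset.prod_range_succ, hgp] at e2
    rw [e1, hψ]
    exact (mul_right_cancel e2).symm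
  set K : Subgroup P := ψ.ker.map A.subtype with hK
  have hKA : A ≤ Subgroup.normalizer (K : Set P) := by
    intro a ha
    rw [Subgroup.mem_normalizer_iff]
    intro h
    constructor
    · rintro ⟨k, hk, rfl⟩
      exact ⟨⟨a, ha⟩ * k * ⟨a, ha⟩⁻¹, (inferInstance : ψ.ker.Normal).conj_mem k hk _, rfl⟩
    · rintro ⟨k, hk, hk'⟩
      refine ⟨⟨a, ha⟩⁻¹ * k * ⟨a, ha⟩, (inferInstance : ψ.ker.Normal).conj_mem' k hk _, ?_⟩
      have : (k : P) = a * h * a⁻¹ := hk'
      simp [this, mul_assoc]
  have hKx : x ∈ Subgroup.normalizer (K : Set P) := by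
    rw [Subgroup.mem_normalizer_iff]
    intro h
    constructor
    · rintro ⟨k, hk, rfl⟩
      refine ⟨MulAut.conjNormal x k, ?_, MulAut.conjNormal_apply x k⟩
      show ψ _ = 1
      rw [hshift]; exact hk
    · rintro ⟨k, hk, hk'⟩
      refine ⟨(MulAut.conjNormal x)⁻¹ k, ?_, ?_⟩
      · show ψ _ = 1
        rw [← hshift, MulAut.apply_inv_self]; exact hk
      · have : (k : P) = x * h * x⁻¹ := hk'
        rw [← map_inv]
        simp [MulAut.conjNormal_apply, this, mul_assoc]
  haveI hKn : K.Normal := Subgroup.normalizer_eq_top_iff.mp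
    (top_le_iff.mp ((sup_zpowers_eq_top hA hx).ge.trans (sup_le hKA (Subgroup.zpowers_le.mpr hKx))))
  have hle : commutator P ≤ K := by
    refine commutator_le_of_gen (sup_zpowers_eq_top hA hx) (fun a ha b hb => ?_) fun a ha => ?_
    · exact ⟨⁅(⟨a, ha⟩ : A), ⟨b, hb⟩⁆, Abelianization.commutator_subset_ker ψ
        (Subgroup.commutator_mem_commutator trivial trivial), rfl⟩
    · refine ⟨⟨a, ha⟩ * (MulAut.conjNormal x ⟨a, ha⟩)⁻¹, ?_, ?_⟩
      · show ψ _ = 1
        rw [map_mul, map_inv, hshift, mul_inv_cancel]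
      · simp [MulAut.conjNormal_apply, commutatorElement_def, mul_assoc]
  have h1 : K.index = (commutator Q).index * p := by
    rw [hK, Subgroup.index_map_subtype, Subgroup.index_ker, MonoidHom.range_eq_top.mpr hsurj,
      Subgroup.card_top, hA]
    rfl
  have h2 : K.index ∣ p ^ 2 := hab ▸ Subgroup.index_dvd_of_le hle
  rw [h1, sq] at h2
  have h3 : (commutator Q).index ∣ p := Nat.dvd_of_mul_dvd_mul_right hp.out.pos h2
  rcases (Nat.dvd_prime hp.out).mp h3 with h4 | h4
  · intro a ha b hb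
    haveI := (hP.to_subgroup Q).isNilpotent
    rcases subsingleton_or_nontrivial Q with hs | hn
    · have : a = b := congrArg Subtype.val (Subsingleton.elim (⟨a, ha⟩ : Q) ⟨b, hb⟩)
      rw [this]
    · exact absurd (Subgroup.index_eq_one.mp h4) (Group.IsSolvable.commutator_lt_top_of_nontrivial Q).ne
  · exact commutative_of_index hP Q h4

/-- With an abelian subgroup of index `p`, outside elements have centralisers of order `p²`. -/
theorem card_centralizer_eq (hP : IsPGroup p P) (hab : (commutator P).index = p ^ 2) {A : Subgroup P}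
    [A.Normal] (hA : A.index = p) (hcomm : ∀ a ∈ A, ∀ b ∈ A, Commute a b) (hbig : p ^ 2 ≤ Nat.card P)
    {x : P} (hx : x ∉ A) : Nat.card (Subgroup.centralizer ({x} : Set P)) = p ^ 2 := by
  let φ : A →* P :=
    { toFun := fun a => ⁅(a : P), x⁆
      map_one' := by simp
      map_mul' := fun a b => by
        have hb : x * (b : P)⁻¹ * x⁻¹ ∈ A := ‹A.Normal›.conj_mem _ (A.inv_mem b.2) x
        have h1 : ⁅(b : P), x⁆ ∈ A := by
          rw [commutatorElement_def, mul_assoc, mul_assoc]
          exact A.mul_mem b.2 (by simpa [mul_assoc] using hb)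
        show ⁅(a : P) * b, x⁆ = ⁅(a : P), x⁆ * ⁅(b : P), x⁆
        rw [show ⁅(a : P) * b, x⁆ = (a : P) * ⁅(b : P), x⁆ * (a : P)⁻¹ * ⁅(a : P), x⁆ by
          simp only [commutatorElement_def]; group]
        have h2 : ⁅(a : P), x⁆ ∈ A := by
          rw [commutatorElement_def, mul_assoc, mul_assoc]
          exact A.mul_mem a.2 (by simpa [mul_assoc] using ‹A.Normal›.conj_mem _ (A.inv_mem a.2) x)
        rw [(hcomm _ a.2 _ h1).eq, mul_inv_cancel_right]
        exact (hcomm _ h2 _ h1).eq.symm }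
  have hφA : φ.range ≤ A := by
    rintro _ ⟨a, rfl⟩
    show ⁅(a : P), x⁆ ∈ A
    rw [commutatorElement_def, mul_assoc, mul_assoc]
    exact A.mul_mem a.2 (by simpa [mul_assoc] using ‹A.Normal›.conj_mem _ (A.inv_mem a.2) x)
  haveI : φ.range.Normal := by
    refine Subgroup.normalizer_eq_top_iff.mp (top_le_iff.mp ((sup_zpowers_eq_top hA hx).ge.trans
      (sup_le (fun a ha => ?_) (Subgroup.zpowers_le.mpr ?_))))
    · rw [Subgroup.mem_normalizer_iff]
      intro h
      constructor
      · intro hh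
        rwa [(hcomm a ha h (hφA hh)).eq, mul_inv_cancel_right]
      · intro hh
        have hhA : h ∈ A := by
          have := A.mul_mem (A.mul_mem (A.inv_mem ha) (hφA hh)) ha
          simpa [mul_assoc] using this
        rwa [(hcomm a ha h hhA).eq, mul_inv_cancel_right] at hh
    · rw [Subgroup.mem_normalizer_iff]
      intro h
      constructor
      · rintro ⟨a, rfl⟩
        refine ⟨MulAut.conjNormal x a, ?_⟩
        show ⁅((MulAut.conjNormal x a : A) : P), x⁆ = x * ⁅(a : P), x⁆ * x⁻¹
        simp [MulAut.conjNormal_apply, commutatorElement_def, mul_assoc]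
      · rintro ⟨a, ha⟩
        refine ⟨MulAut.conjNormal x⁻¹ a, ?_⟩
        have : ⁅(a : P), x⁆ = x * h * x⁻¹ := ha
        calc φ (MulAut.conjNormal x⁻¹ a) = x⁻¹ * ⁅(a : P), x⁆ * x := by
              show ⁅((MulAut.conjNormal x⁻¹ a : A) : P), x⁆ = _
              simp [MulAut.conjNormal_apply, commutatorElement_def, mul_assoc]
          _ = h := by rw [this]; group
  have hle : commutator P ≤ φ.range := commutator_le_of_gen (sup_zpowers_eq_top hA hx)
    (fun a ha b hb => by rw [commutatorElement_eq_one_iff_commute.mpr (hcomm a ha b hb)]; exact one_mem _)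
    fun a ha => ⟨⟨a, ha⟩, rfl⟩
  have h1 : Nat.card φ.ker ≤ p := by
    have e := φ.ker.index_mul_card
    rw [Subgroup.index_ker] at e
    have h4 := card_commutator_mul hab
    have h5 := A.index_mul_card
    rw [hA, h4, sq, mul_assoc] at h5
    rw [Nat.eq_of_mul_eq_mul_left hp.out.pos h5] at e
    have h6 := Subgroup.card_le_of_le hle
    have hpos : 0 < Nat.card (commutator P) := Nat.card_pos
    nlinarith
  set C := Subgroup.centralizer ({x} : Set P) with hC
  have h2 : Nat.card (A.subgroupOf C) ≤ p := by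
    refine le_trans (Nat.card_le_card_of_injective
      (fun a : A.subgroupOf C => (⟨⟨(a : C).1, a.2⟩, ?_⟩ : φ.ker)) fun a b h => ?_) h1
    · show ⁅(a : C).1, x⁆ = 1
      rw [commutatorElement_eq_one_iff_commute]
      exact (Subgroup.mem_centralizer_singleton_iff.mp (a : C).2)
    · exact Subtype.ext (Subtype.ext (congrArg (fun z : φ.ker => ((z : A) : P)) h))
  have h3 := (A.subgroupOf C).index_mul_card
  have h4 : (A.subgroupOf C).index ∣ A.index := by
    exact Subgroup.relIndex_dvd_index_of_normal A C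
  rw [hA] at h4
  refine le_antisymm ?_ ?_
  · rw [← h3, sq]
    exact Nat.mul_le_mul (Nat.le_of_dvd hp.out.pos h4) h2
  · exact le_card_centralizer hab x

end CfsgLib.CentPSquare
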